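import Cfsg.Agent.Intrinsic.NZTransfer
import Cfsg.Agent.Intrinsic.TypeFour
import Cfsg.Agent.StandardComponent.CentCore
import Cfsg.Agent.StandardComponent.CoreClose
import Cfsg.Agent.SignalizersComponents.SolFunctorTwo
import Cfsg.Agent.Mrg.Omega.SQ1.Choice

section


/-!
# World NZ, (5a.4): killing the core

`G` is simple with one class of involutions, `C_G(z) / O(C_G(z)) = 2.A_n` with `n = 8, 10, 11`, and commuting involutions
are balanced: `O(C_G(x)) ∩ C_G(y) ≤ O(C_G(y))`. Then `O(C_G(z)) = 1`.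
-/

set_option autoImplicit false

namespace Cfsg.Agent.Intrinsic.NZCore

open Equiv Cfsg.Agent.SporRec.TwoAn Cfsg Subgroup NZTransfer
open Cfsg.Agent.StandardComponent.CentCore (core_le core_comm core_odd core_odd_order le_core core_conj_mem
  mem_core_conj core_eq_of_comm)

variable {G : Type*} [Group G]

/-- the closure of a set of commuting involutions is elementary abelian -/
theorem isElementaryAbelian_closure (s : Set G) (hs : ∀ a ∈ s, a * a = 1) (hc : ∀ a ∈ s, ∀ b ∈ s, a * b = b * a) :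
    IsElementaryAbelian 2 (closure s) := by
  have hcomm : IsMulCommutative (closure s) := Subgroup.isMulCommutative_closure hc
  refine ⟨hcomm, ?_⟩
  intro a ha
  refine closure_induction (p := fun x _ => x ^ 2 = 1) ?_ ?_ ?_ ?_ ha
  · intro x hx; rw [pow_two]; exact hs x hx
  · rw [one_pow]
  · intro x y hx hy h1 h2
    have h3 : x * y = y * x := by
      have := hcomm.is_comm.comm (⟨x, hx⟩ : closure s) ⟨y, hy⟩
      exact congrArg Subtype.val this
    have h4 : Commute x y := h3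
    rw [h4.mul_pow, h1, h2, one_mul]
  · intro x _ h1
    rw [inv_pow, h1, inv_one]

/-- The closure of the cores of a balanced elementary abelian group of order at least 8 has odd order and is generated
by the cores of any noncyclic subgroup. -/
theorem functor [Finite G] (A V : Subgroup G) (hA : IsElementaryAbelian 2 A) (hA8 : 8 ≤ Nat.card A) (hVA : V ≤ A)
    (hV : 4 ≤ Nat.card V) (hsolv : ∀ a ∈ A, a ≠ 1 → Group.IsSolvable (centralizerPPrimeCore 2 a))
    (hbal : ∀ a ∈ A, a ≠ 1 → ∀ b ∈ A, b ≠ 1 →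
      centralizerPPrimeCore 2 a ⊓ centralizer {b} ≤ centralizerPPrimeCore 2 b) :
    (⨆ a : {a : G // a ∈ V ∧ a ≠ 1}, centralizerPPrimeCore 2 (a : G)) =
      (⨆ a : {a : G // a ∈ A ∧ a ≠ 1}, centralizerPPrimeCore 2 (a : G)) ∧
    Odd (Nat.card ↥(⨆ a : {a : G // a ∈ A ∧ a ≠ 1}, centralizerPPrimeCore 2 (a : G))) := by
  have : Fact (Nat.Prime 2) := ⟨Nat.prime_two⟩
  have hAc := SignalizersComponents.CoprimeGen.comm_of_isElementaryAbelian hA
  obtain ⟨h1, h2, -⟩ := SignalizersComponents.SolFunctorTwo.solvable_signalizer_functor_two A hAc hA.2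
    (by norm_num; exact hA8) (centralizerPPrimeCore 2) (fun a _ _ => core_le a)
    (fun a _ _ h => (Nat.not_even_iff_odd.2 (core_odd a)) (even_iff_two_dvd.2 h))
    (fun a ha _ b hb x hx => core_conj_mem (hAc b hb a ha) hx) hsolv hbal
  refine ⟨le_antisymm ?_ ?_, ?_⟩
  · refine iSup_le fun a => ?_
    exact le_iSup (fun a : {a : G // a ∈ A ∧ a ≠ 1} => centralizerPPrimeCore 2 (a : G)) ⟨a, hVA a.2.1, a.2.2⟩
  · have hVn : V ≤ normalizer ((⨆ a : {a : G // a ∈ A ∧ a ≠ 1}, centralizerPPrimeCore 2 (a : G) : Subgroup G) :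
        Set G) := by
      intro v hv
      refine StandardComponent.CoreClose.mem_normalizer_of_le _ v ?_
      intro d hd
      refine iSup_induction (C := fun d => v * d * v⁻¹ ∈
        (⨆ a : {a : G // a ∈ A ∧ a ≠ 1}, centralizerPPrimeCore 2 (a : G))) _ hd ?_ ?_ ?_
      · intro a x hx
        exact (le_iSup (fun a : {a : G // a ∈ A ∧ a ≠ 1} => centralizerPPrimeCore 2 (a : G)) a)
          (core_conj_mem (hAc v (hVA hv) a a.2.1) hx)
      · rw [mul_one, mul_inv_cancel]; exact one_mem _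
      · intro x y hx hy
        rw [show v * (x * y) * v⁻¹ = v * x * v⁻¹ * (v * y * v⁻¹) by group]
        exact mul_mem hx hy
    refine (SignalizersComponents.CoprimeGen.le_iSup_centralizer_ne_one
      (SignalizersComponents.CoprimeGen.isElementaryAbelian_mono hA hVA) (by norm_num; exact hV) h1 hVn).trans ?_
    refine iSup_le fun v => ?_
    rw [h2 v (hVA v.2.1) v.2.2]
    exact le_iSup (fun a : {a : G // a ∈ V ∧ a ≠ 1} => centralizerPPrimeCore 2 (a : G)) v
  · rw [← Nat.not_even_iff_odd, even_iff_two_dvd]; exact h1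

/-- the group generated by the cores of the nontrivial elements of a set -/
def supO (s : Set G) : Subgroup G := ⨆ a : {a : G // a ∈ s ∧ a ≠ 1}, centralizerPPrimeCore 2 (a : G)

theorem le_supO {s : Set G} {a : G} (ha : a ∈ s) (h1 : a ≠ 1) : centralizerPPrimeCore 2 a ≤ supO s :=
  le_iSup (fun a : {a : G // a ∈ s ∧ a ≠ 1} => centralizerPPrimeCore 2 (a : G)) ⟨a, ha, h1⟩

theorem supO_le {s : Set G} {H : Subgroup G} (h : ∀ a ∈ s, a ≠ 1 → centralizerPPrimeCore 2 a ≤ H) : supO s ≤ H :=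
  iSup_le fun a => h a a.2.1 a.2.2

theorem conj_mem_supO [Finite G] {s t : Set G} {g : G} (h : ∀ a ∈ s, g * a * g⁻¹ ∈ t) {x : G} (hx : x ∈ supO s) :
    g * x * g⁻¹ ∈ supO t := by
  have h1 : (supO s).map (MulAut.conj g).toMonoidHom ≤ supO t := by
    rw [map_le_iff_le_comap]
    refine supO_le fun a ha h1 y hy => ?_
    refine le_supO (h a ha) ?_ ((mem_core_conj g a (g * y * g⁻¹)).2 ?_)
    · intro h2
      rw [mul_inv_eq_one, mul_eq_left] at h2
      exact h1 h2
    · rwa [show g⁻¹ * (g * y * g⁻¹) * g = y by group]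
  exact h1 ⟨x, hx, rfl⟩

/-- hypothesis: commuting involutions are balanced -/
def Bal (G : Type*) [Group G] : Prop := ∀ x y : G, orderOf x = 2 → orderOf y = 2 → x ≠ y → x * y = y * x →
  centralizerPPrimeCore 2 x ⊓ centralizer {y} ≤ centralizerPPrimeCore 2 y

theorem orderOf_of_elemAb {A : Subgroup G} (hA : IsElementaryAbelian 2 A) {a : G} (ha : a ∈ A) (h1 : a ≠ 1) :
    orderOf a = 2 := by
  have : Fact (Nat.Prime 2) := ⟨Nat.prime_two⟩
  exact orderOf_eq_prime (hA.2 a ha) h1

theorem supO_eq [Finite G] (hbal : Bal G) (hsolv : ∀ x : G, orderOf x = 2 → Group.IsSolvable (centralizerPPrimeCore 2 x))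
    {A V : Subgroup G} (hA : IsElementaryAbelian 2 A) (hA8 : 8 ≤ Nat.card A) (hVA : V ≤ A) (hV : 4 ≤ Nat.card V) :
    supO (V : Set G) = supO (A : Set G) ∧ Odd (Nat.card (supO (A : Set G))) := by
  have hc := SignalizersComponents.CoprimeGen.comm_of_isElementaryAbelian hA
  refine functor A V hA hA8 hVA hV (fun a ha h1 => hsolv a (orderOf_of_elemAb hA ha h1)) ?_
  intro a ha ha1 b hb hb1
  by_cases hab : a = b
  · rw [hab]; exact inf_le_left
  · exact hbal a b (orderOf_of_elemAb hA ha ha1) (orderOf_of_elemAb hA hb hb1) hab (hc a ha b hb)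

theorem two_mul_card_le [Finite G] {A B : Subgroup G} (h : A ≤ B) (hne : A ≠ B) : 2 * Nat.card A ≤ Nat.card B := by
  obtain ⟨k, hk⟩ := Subgroup.card_dvd_of_le h
  have hA : 0 < Nat.card A := Nat.card_pos
  have hB : 0 < Nat.card B := Nat.card_pos
  have h0 : k ≠ 0 := by rintro rfl; omega
  have h1 : k ≠ 1 := by
    rintro rfl
    apply hne
    exact Subgroup.eq_of_le_of_card_ge h (by rw [hk, mul_one])
  rw [hk, mul_comm]
  exact Nat.mul_le_mul_left _ (by omega)

theorem four_le_card [Finite G] {z x : G} (hz : orderOf z = 2) (hx1 : x ≠ 1) (hxz : x ≠ z) :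
    4 ≤ Nat.card (closure {z, x}) := by
  have h1 : zpowers z ≤ closure {z, x} := by
    rw [zpowers_le]
    exact subset_closure (by simp)
  have h2 : zpowers z ≠ closure {z, x} := by
    intro h
    have h3 : x ∈ zpowers z := by rw [h]; exact subset_closure (by simp)
    obtain ⟨k, hk⟩ := mem_zpowers_iff.1 h3
    rcases Int.even_or_odd k with ⟨m, hm⟩ | ⟨m, hm⟩
    · apply hx1
      rw [← hk, hm, ← two_mul, zpow_mul, zpow_ofNat, ← hz, pow_orderOf_eq_one, one_zpow]
    · apply hxz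
      rw [← hk, hm, zpow_add, zpow_mul, zpow_ofNat, ← hz, pow_orderOf_eq_one, one_zpow, one_mul, zpow_one]
  have h3 := two_mul_card_le h1 h2
  rw [Nat.card_zpowers, hz] at h3
  exact h3

section main

variable [Finite G] {n : ℕ} {z : G} (hz : orderOf z = 2) (K : Cover (Fin n) (Cbar z)) (hKz : K.z = zb z)

/-- the permutation induced by an element of the centralizer -/
def p {z : G} (K : Cover (Fin n) (Cbar z)) (x : G) (hx : x * z = z * x) : Perm (Fin n) := K.π (im x hx)

include hz hKz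

omit [Finite G] hz in
theorem p_z (h : z * z = z * z) : p K z h = 1 := by
  have : im z h = K.z := by rw [hKz]; rfl
  rw [p, this, K.π_z]

theorem p_ne_one {x : G} (hx : x * z = z * x) (hxx : x * x = 1) (hx1 : x ≠ 1) (hxz : x ≠ z) : p K x hx ≠ 1 := by
  intro h
  rcases (K.ker _).1 h with h1 | h1
  · exact hx1 (im_inj_of_sq hx hxx h1)
  · exact hxz (eq_z_of_im (z_sq_of hz) hx hxx (by rw [h1, hKz]))

omit [Finite G] hz hKz in
theorem im_sq {x : G} (hx : x * z = z * x) (hxx : x * x = 1) : im x hx * im x hx = 1 := by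
  have h1 : x * x * z = z * (x * x) := by rw [hxx, one_mul, mul_one]
  rw [← im_mul hx hx h1]
  have : im (z := z) (x * x) h1 = im (1 : G) (by rw [one_mul, mul_one]) := by congr 1
  rw [this]; rfl

theorem T_p (hn : n < 16) {x : G} (hx : x * z = z * x) (hxx : x * x = 1) (hx1 : x ≠ 1) (hxz : x ≠ z) :
    TypeFour.T (p K x hx) := by
  obtain ⟨h1, k, hk⟩ := K.sq_eq_one_iff.1 (im_sq hx hxx)
  refine ⟨h1, ?_⟩
  have h2 : (K.π (im x hx)).support.card ≤ Fintype.card (Fin n) := Finset.card_le_univ _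
  rw [Fintype.card_fin] at h2
  have h3 : (K.π (im x hx)).support.card ≠ 0 := by
    rw [Ne, Finset.card_eq_zero, Perm.support_eq_empty_iff]
    exact p_ne_one hz K hKz hx hxx hx1 hxz
  show (K.π (im x hx)).support.card = 8
  omega

/-- every product of four transpositions is induced by an involution -/
theorem exists_of_T {σ : Perm (Fin n)} (hσ : TypeFour.T σ) :
    ∃ (y : G) (hy : y * z = z * y), y * y = 1 ∧ y ≠ 1 ∧ y ≠ z ∧ p K y hy = σ := by
  obtain ⟨q, hq⟩ := K.exists_lift hσ.mem_alternating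
  have hqq : q * q = 1 := K.sq_eq_one_iff.2 ⟨by rw [hq]; exact hσ.1, by rw [hq, hσ.2]⟩
  obtain ⟨⟨y, hyC⟩, hy, hyy⟩ := OddQuot.exists_inv_lift (odd_oddCore _) q hqq
  have hyz := mem_cent.1 hyC
  have hp : p K y hyz = σ := by
    rw [← hq, ← hy]; rfl
  have hσ1 : σ ≠ 1 := by
    rintro rfl
    have := hσ.2
    rw [Perm.support_one, Finset.card_empty] at this
    exact absurd this (by decide)
  refine ⟨y, hyz, congrArg Subtype.val hyy, ?_, ?_, hp⟩
  · rintro rfl
    apply hσ1
    rw [← hp]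
    exact map_one K.π
  · rintro rfl
    apply hσ1
    rw [← hp]
    exact p_z K hKz _

omit hz hKz K in
/-- conjugation by an element of the core -/
theorem W_le_of_conj {y o x' : G} (ho : o ∈ centralizerPPrimeCore 2 z) (hz1 : z ≠ 1) (h : o * y * o⁻¹ = x') :
    supO (closure {z, x'} : Set G) ≤ supO (closure {z, y} : Set G) := by
  have hoz := core_comm ho
  have hOz : centralizerPPrimeCore 2 z ≤ supO (closure {z, y} : Set G) :=
    le_supO (subset_closure (by simp)) hz1
  have h1 : ∀ a ∈ (closure {z, x'} : Set G), o⁻¹ * a * o⁻¹⁻¹ ∈ (closure {z, y} : Set G) := by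
    have h2 : closure {z, x'} ≤ (closure {z, y}).comap (MulAut.conj o⁻¹).toMonoidHom := by
      rw [closure_le]
      intro a ha
      show o⁻¹ * a * o⁻¹⁻¹ ∈ closure {z, y}
      rcases ha with ha | ha
      · rw [ha, inv_inv, mul_assoc, ← hoz, inv_mul_cancel_left]
        exact subset_closure (by simp)
      · rw [Set.mem_singleton_iff] at ha
        rw [ha, ← h, show o⁻¹ * (o * y * o⁻¹) * o⁻¹⁻¹ = y by group]
        exact subset_closure (by simp)
    exact fun a ha => h2 ha
  intro t ht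
  have h2 := conj_mem_supO h1 ht
  have h3 : t = o * (o⁻¹ * t * o⁻¹⁻¹) * o⁻¹ := by group
  rw [h3]
  exact mul_mem (mul_mem (hOz ho) h2) (inv_mem (hOz ho))

/-- (α): the group `⟨O(C(z)), O(C(x)), O(C(zx))⟩` depends only on the permutation. -/
theorem W_le_of_p_eq {x x' : G} (hx : x * z = z * x) (hxx : x * x = 1) (hx' : x' * z = z * x') (hxx' : x' * x' = 1)
    (h : p K x hx = p K x' hx') : supO (closure {z, x'} : Set G) ≤ supO (closure {z, x} : Set G) := by
  have hzz := z_sq_of hz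
  have hz1 : z ≠ 1 := by rintro rfl; rw [orderOf_one] at hz; exact absurd hz (by decide)
  have key : ∀ (y : G) (hy : y * z = z * y), y * y = 1 → im y hy = im x' hx' →
      supO (closure {z, x'} : Set G) ≤ supO (closure {z, y} : Set G) := by
    intro y hy hyy hyx
    obtain ⟨o, ho, hox⟩ := OddQuot.conj_of_mk_eq (odd_oddCore _)
      (x := (⟨y, mem_cent.2 hy⟩ : ↥(centralizer ({z} : Set G)))) (x' := ⟨x', mem_cent.2 hx'⟩)
      (Subtype.ext hyy) (Subtype.ext hxx') hyx
    exact W_le_of_conj (z := z) (y := y) (o := (o : G)) (x' := x') ⟨o, ho, rfl⟩ hz1 (congrArg Subtype.val hox)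
  rcases K.lift_eq h.symm with h1 | h1
  · exact key x hx hxx h1.symm
  · have hxz2 : x * z * z = z * (x * z) := by rw [← mul_assoc, hx]
    have h2 : im (x * z) hxz2 = im x' hx' := by
      rw [im_mul hx rfl, h1, hKz]; rfl
    have h3 := key (x * z) hxz2 (by
      calc x * z * (x * z) = x * (z * x) * z := by group
        _ = x * x * (z * z) := by rw [← hx]; group
        _ = 1 := by rw [hxx, hzz, one_mul]) h2
    refine h3.trans ?_
    have h4 : (closure {z, x * z} : Subgroup G) ≤ closure {z, x} := by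
      rw [closure_le]
      rintro a (rfl | rfl)
      · exact subset_closure (by simp)
      · exact mul_mem (subset_closure (by simp)) (subset_closure (by simp))
    exact supO_le fun a ha h1 => le_supO (h4 ha) h1

/-- (α), equality -/
theorem W_eq_of_p_eq {x x' : G} (hx : x * z = z * x) (hxx : x * x = 1) (hx' : x' * z = z * x') (hxx' : x' * x' = 1)
    (h : p K x hx = p K x' hx') : supO (closure {z, x'} : Set G) = supO (closure {z, x} : Set G) :=
  le_antisymm (W_le_of_p_eq hz K hKz hx hxx hx' hxx' h) (W_le_of_p_eq hz K hKz hx' hxx' hx hxx h.symm)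

/-- (β): adjacent permutations -/
theorem W_eq_of_R (hbal : Bal G) (hsolv : ∀ x : G, orderOf x = 2 → Group.IsSolvable (centralizerPPrimeCore 2 x))
    {x x' : G} (hx : x * z = z * x) (hxx : x * x = 1)
    (hx' : x' * z = z * x') (hxx' : x' * x' = 1)
    (h : TypeFour.R (p K x hx) (p K x' hx')) :
    supO (closure {z, x'} : Set G) = supO (closure {z, x} : Set G) ∧ Odd (Nat.card (supO (closure {z, x} : Set G))) := by
  have hzz := z_sq_of hz
  have hne1 : ∀ {y : G} {hy : y * z = z * y}, TypeFour.T (p K y hy) → y ≠ 1 ∧ y ≠ z := by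
    intro y hy hT
    have hσ1 : p K y hy ≠ 1 := by
      intro h1
      have := hT.2
      rw [h1, Perm.support_one, Finset.card_empty] at this
      exact absurd this (by decide)
    exact ⟨fun h => hσ1 (by subst h; exact map_one K.π), fun h => hσ1 (by subst h; exact p_z K hKz _)⟩
  -- the images commute
  have hcomm : im x' hx' * im x hx = im x hx * im x' hx' := by
    have h1 : (im x hx * im x' hx') * (im x hx * im x' hx') = 1 := by
      rw [K.sq_eq_one_iff, map_mul]
      refine ⟨?_, ?_⟩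
      · have e1 : p K x hx * p K x' hx' = p K x' hx' * p K x hx := h.2.2.1
        have e2 := h.1.1
        have e3 := h.2.1.1
        show p K x hx * p K x' hx' * (p K x hx * p K x' hx') = 1
        calc p K x hx * p K x' hx' * (p K x hx * p K x' hx')
            = p K x hx * (p K x' hx' * p K x hx) * p K x' hx' := by group
          _ = (p K x hx * p K x hx) * (p K x' hx' * p K x' hx') := by rw [← e1]; group
          _ = 1 := by rw [e2, e3, one_mul]
      · show 8 ∣ (p K x hx * p K x' hx').support.card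
        rw [h.2.2.2]
    have h2 := im_sq hx hxx
    have h3 := im_sq hx' hxx'
    calc im x' hx' * im x hx = (im x hx * im x hx) * (im x' hx' * im x hx) * (im x' hx' * im x' hx') := by
          rw [h2, h3, one_mul, mul_one]
      _ = im x hx * ((im x hx * im x' hx') * (im x hx * im x' hx')) * im x' hx' := by group
      _ = im x hx * im x' hx' := by rw [h1, mul_one]
  obtain ⟨⟨y, hyC⟩, hy, hyy', hyx'⟩ := OddQuot.exists_comm_inv_lift (odd_oddCore _)
    (x := (⟨x, mem_cent.2 hx⟩ : ↥(centralizer ({z} : Set G)))) (Subtype.ext hxx) (im x' hx') (im_sq hx' hxx') hcomm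
  have hyz := mem_cent.1 hyC
  have hyy : y * y = 1 := congrArg Subtype.val hyy'
  have hyx : y * x = x * y := congrArg Subtype.val hyx'
  have hpy : p K y hyz = p K x' hx' := by
    show K.π _ = K.π _
    congr 1
  have hx1 := hne1 h.1
  have hy1 : y ≠ 1 ∧ y ≠ z := hne1 (y := y) (hy := hyz) (by rw [hpy]; exact h.2.1)
  -- `y` is not in `⟨z, x⟩`
  have hyV : y ∉ closure {z, x} := by
    intro hyV
    have h1 : closure {z, x} ≤ ((zpowers (p K x hx)).comap (K.π.comp (QuotientGroup.mk' _))).map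
        (centralizer ({z} : Set G)).subtype := by
      rw [closure_le]
      intro a ha
      rcases ha with ha | ha
      · subst ha
        refine ⟨⟨a, mem_cent.2 rfl⟩, ?_, rfl⟩
        show K.π (zb a) ∈ zpowers _
        rw [← hKz, K.π_z]
        exact one_mem _
      · rw [Set.mem_singleton_iff] at ha
        subst ha
        exact ⟨⟨a, mem_cent.2 hx⟩, mem_zpowers _, rfl⟩
    obtain ⟨⟨y', hy'C⟩, hy', hyy'⟩ := h1 hyV
    have e1 : y' = y := hyy'
    subst e1
    obtain ⟨k, hk⟩ := mem_zpowers_iff.1 hy'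
    have hk' : p K x hx ^ k = p K y' hyz := hk
    have hxx2 : p K x hx ^ (2 : ℤ) = 1 := by rw [zpow_ofNat, pow_two]; exact h.1.1
    have hR := h.2.2.2
    rw [← hpy, ← hk'] at hR
    rcases Int.even_or_odd k with ⟨m, hm⟩ | ⟨m, hm⟩
    · have : p K x hx ^ k = 1 := by rw [hm, ← two_mul, zpow_mul, hxx2, one_zpow]
      rw [this] at hk'
      exact p_ne_one hz K hKz hyz hyy hy1.1 hy1.2 hk'.symm
    · have : p K x hx ^ k = p K x hx := by rw [hm, zpow_add, zpow_mul, hxx2, one_zpow, one_mul, zpow_one]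
      rw [this, h.1.1, Perm.support_one, Finset.card_empty] at hR
      exact absurd hR (by decide)
  -- the elementary abelian group of order 8
  have hA : IsElementaryAbelian 2 (closure {z, x, y}) := by
    refine isElementaryAbelian_closure _ ?_ ?_
    · intro a ha
      simp only [Set.mem_insert_iff, Set.mem_singleton_iff] at ha
      rcases ha with rfl | rfl | rfl <;> assumption
    · intro a ha b hb
      simp only [Set.mem_insert_iff, Set.mem_singleton_iff] at ha hb
      rcases ha with rfl | rfl | rfl <;> rcases hb with rfl | rfl | rfl <;>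
        first | rfl | assumption | (symm; assumption)
  have hVx : closure {z, x} ≤ closure {z, x, y} := closure_mono (by
    intro a ha
    simp only [Set.mem_insert_iff, Set.mem_singleton_iff] at ha ⊢
    rcases ha with h | h
    · exact Or.inl h
    · exact Or.inr (Or.inl h))
  have hVy : closure {z, y} ≤ closure {z, x, y} := closure_mono (by
    intro a ha
    simp only [Set.mem_insert_iff, Set.mem_singleton_iff] at ha ⊢
    rcases ha with h | h
    · exact Or.inl h
    · exact Or.inr (Or.inr h))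
  have hne : closure {z, x} ≠ closure {z, x, y} := by
    intro h1
    apply hyV
    rw [h1]
    exact subset_closure (by simp)
  have h4 := four_le_card hz hx1.1 hx1.2
  have h8 : 8 ≤ Nat.card (closure {z, x, y}) := by
    have := two_mul_card_le hVx hne
    omega
  have r1 := supO_eq hbal hsolv hA h8 hVx h4
  have r2 := supO_eq hbal hsolv hA h8 hVy (four_le_card hz hy1.1 hy1.2)
  have r3 := W_eq_of_p_eq hz K hKz hyz hyy hx' hxx' hpy
  refine ⟨?_, ?_⟩
  · rw [r3, r2.1, r1.1]
  · rw [r1.1]; exact r1.2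

/-- (5): independence of the second involution -/
theorem W_eq (hn : n < 16) (hgood : TypeFour.Good n) (hbal : Bal G)
    (hsolv : ∀ x : G, orderOf x = 2 → Group.IsSolvable (centralizerPPrimeCore 2 x))
    {x x' : G} (hx : x * z = z * x) (hxx : x * x = 1) (hx1 : x ≠ 1) (hxz : x ≠ z)
    (hx' : x' * z = z * x') (hxx' : x' * x' = 1) (hx1' : x' ≠ 1) (hxz' : x' ≠ z) :
    supO (closure {z, x'} : Set G) = supO (closure {z, x} : Set G) := by
  have hT := T_p hz K hKz hn hx hxx hx1 hxz
  have hT' := T_p hz K hKz hn hx' hxx' hx1' hxz'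
  have key : ∀ τ : Perm (Fin n), TypeFour.Conn (p K x hx) τ → ∀ (y : G) (hy : y * z = z * y), y * y = 1 →
      p K y hy = τ → supO (closure {z, y} : Set G) = supO (closure {z, x} : Set G) := by
    intro τ h
    induction h with
    | refl => intro y hy hyy hp; exact W_eq_of_p_eq hz K hKz hx hxx hy hyy hp.symm
    | tail h1 h2 ih =>
      rename_i σ τ
      intro y hy hyy hp
      obtain ⟨w, hw, hww, hw1, hwz, hpw⟩ := exists_of_T hz K hKz h2.1
      rw [← ih w hw hww hpw]
      exact (W_eq_of_R hz K hKz hbal hsolv hw hww hy hyy (by rw [hpw, hp]; exact h2)).1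
  exact key _ (hgood.1 _ _ hT hT') x' hx' hxx' rfl

theorem W_odd (hn : n < 16) (hgood : TypeFour.Good n) (hbal : Bal G)
    (hsolv : ∀ x : G, orderOf x = 2 → Group.IsSolvable (centralizerPPrimeCore 2 x))
    {x : G} (hx : x * z = z * x) (hxx : x * x = 1) (hx1 : x ≠ 1) (hxz : x ≠ z) :
    Odd (Nat.card (supO (closure {z, x} : Set G))) := by
  have hT := T_p hz K hKz hn hx hxx hx1 hxz
  obtain ⟨τ, hτ⟩ := hgood.2 _ hT
  obtain ⟨w, hw, hww, hw1, hwz, hpw⟩ := exists_of_T hz K hKz hτ.2.1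
  exact (W_eq_of_R hz K hKz hbal hsolv hx hxx hw hww (by rw [hpw]; exact hτ)).2

end main

end Cfsg.Agent.Intrinsic.NZCore

end

section


/-!
# Uniqueness of FF-blocks over a Baumann group `B`, abstract form (bb OMEGA #14539, TEXT R1 (3), helper609)

`A` is an elementary abelian 2-subgroup of maximal order `m` of `G` which acts on `V` with `[V, A] ≤ Z₁` and
`|V : C_V(A)| = |A : A ∩ Q|`, `Q = C(V)`; `W` is the module of a second block (`Z_W ≤ Z_J ≤ V`), such that the
`L`-conjugates of `W` commute with each other and with `V`, and every elementary abelian subgroup of order `m` of `Q`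
acts on `W` trivially or as a full offender with commutator group `Z_W`.

* `Sit.main`: if `l ∈ L` and `Z_J^l ∩ Z₁ = 1` then `A` centralises `[W, Q]^l`.
-/

set_option autoImplicit false

namespace Cfsg.Agent.Omega.OM.BlockUniq

open Subgroup Cfsg Cfsg.Agent.PLocal.ThompsonJ Cfsg.Agent.ZN Cfsg.Agent.ZN.ChoiceBase
open Cfsg.Agent.PLocal.ElemAbSup
open Cfsg.Agent.Omega.SQ1.Bau (mem_sup_comm card_sup_comm elem_comm elem_sq)
open scoped Pointwise commutatorElement

universe u

variable {G : Type u} [Group G]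

/-! ### Elementary abelian subgroups of maximal order -/

/-- `m` bounds the orders of the elementary abelian 2-subgroups. -/
def Mx (G : Type u) [Group G] (m : ℕ) : Prop := ∀ E : Subgroup G, IsElementaryAbelian 2 E → Nat.card E ≤ m

theorem elem_le_centralizer {A B : Subgroup G} (h : ∀ a ∈ A, ∀ b ∈ B, a * b = b * a) :
    B ≤ centralizer (A : Set G) := fun b hb => mem_centralizer_iff.2 fun a ha => h a ha b hb

/-- An involution commuting with an elementary abelian subgroup of maximal order lies in it. -/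
theorem mem_of_max [Finite G] {m : ℕ} (hm : Mx G m) {A : Subgroup G} (hA : IsElementaryAbelian 2 A)
    (hc : Nat.card A = m) {x : G} (hx : x ^ 2 = 1) (h : ∀ a ∈ A, a * x = x * a) : x ∈ A := by
  have h1 : zpowers x ≤ centralizer (A : Set G) := by
    rw [zpowers_le, mem_centralizer_iff]; exact h
  have h2 := hm _ (isElementaryAbelian_sup hA (isElementaryAbelian_zpowers hx) h1)
  have h3 : A = A ⊔ zpowers x := Subgroup.eq_of_le_of_card_ge le_sup_left (by rw [hc]; exact h2)
  rw [h3]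
  exact mem_sup_right (mem_zpowers x)

/-- The basic counting argument. -/
theorem split [Finite G] {m : ℕ} (hm : Mx G m) {A U W F : Subgroup G} (hA : IsElementaryAbelian 2 A)
    (hc : Nat.card A = m) (hU : IsElementaryAbelian 2 U) (hFA : F ≤ A) (hFU : ∀ f ∈ F, ∀ u ∈ U, f * u = u * f)
    (hUF : ∀ u ∈ U, u ∈ A → u ∈ F) (hW : W ≤ U)
    (hcard : Nat.card A * Nat.card ↥(W ⊓ centralizer (A : Set G)) ≤ Nat.card W * Nat.card F) :
    ∀ u ∈ U, ∃ w ∈ W, ∃ c ∈ U, (∀ a ∈ A, a * c = c * a) ∧ u = w * c := by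
  set C : Subgroup G := U ⊓ centralizer (A : Set G) with hC
  have hCmem : ∀ c, c ∈ C ↔ c ∈ U ∧ ∀ a ∈ A, a * c = c * a := fun c => by
    rw [hC, mem_inf, mem_centralizer_iff]; rfl
  have h1 : F ⊓ U = C := by
    apply le_antisymm
    · rintro x ⟨hx, hx'⟩
      exact (hCmem x).2 ⟨hx', fun a ha => elem_comm hA a ha x (hFA hx)⟩
    · intro x hx
      obtain ⟨hx1, hx2⟩ := (hCmem x).1 hx
      exact ⟨hUF x hx1 (mem_of_max hm hA hc (elem_sq hU x hx1) hx2), hx1⟩
  have h2 := card_sup_comm hFU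
  rw [h1] at h2
  have h3 := hm _ (isElementaryAbelian_sup (isElementaryAbelian_mono hA hFA) hU (elem_le_centralizer hFU))
  have hWC : ∀ w ∈ W, ∀ c ∈ C, w * c = c * w := fun w hw c hc' => elem_comm hU w (hW hw) c ((hCmem c).1 hc').1
  have h4 := card_sup_comm hWC
  have h5 : W ⊓ C = W ⊓ centralizer (A : Set G) := by
    apply le_antisymm
    · exact inf_le_inf_left _ inf_le_right
    · rintro x ⟨hx, hx'⟩
      exact ⟨hx, hW hx, hx'⟩
  rw [h5] at h4
  have h6 : W ⊔ C = U := by
    refine Subgroup.eq_of_le_of_card_ge (sup_le hW inf_le_left) ?_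
    have hp : 0 < Nat.card F * Nat.card ↥(W ⊓ centralizer (A : Set G)) := Nat.mul_pos Nat.card_pos Nat.card_pos
    refine Nat.le_of_mul_le_mul_right ?_ hp
    calc Nat.card U * (Nat.card F * Nat.card ↥(W ⊓ centralizer (A : Set G)))
        = (Nat.card F * Nat.card U) * Nat.card ↥(W ⊓ centralizer (A : Set G)) := by ring
      _ = (Nat.card ↥(F ⊔ U) * Nat.card C) * Nat.card ↥(W ⊓ centralizer (A : Set G)) := by rw [h2]
      _ ≤ (Nat.card A * Nat.card C) * Nat.card ↥(W ⊓ centralizer (A : Set G)) := by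
          rw [hc]; exact Nat.mul_le_mul_right _ (Nat.mul_le_mul_right _ h3)
      _ = (Nat.card A * Nat.card ↥(W ⊓ centralizer (A : Set G))) * Nat.card C := by ring
      _ ≤ (Nat.card W * Nat.card F) * Nat.card C := Nat.mul_le_mul_right _ hcard
      _ = Nat.card F * (Nat.card W * Nat.card C) := by ring
      _ = Nat.card F * (Nat.card ↥(W ⊔ C) * Nat.card ↥(W ⊓ centralizer (A : Set G))) := by rw [h4]
      _ = _ := by ring
  intro u hu
  rw [← h6] at hu
  obtain ⟨w, hw, c, hc', rfl⟩ := mem_sup_comm hWC hu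
  exact ⟨w, hw, c, ((hCmem c).1 hc').1, ((hCmem c).1 hc').2, rfl⟩

/-! ### The setting -/

/-- The setting of TEXT R1 (3). -/
structure Sit (Q V Z₁ ZJ A L W ZW : Subgroup G) (m : ℕ) : Prop where
  max : Mx G m
  VQ : V ≤ Q
  Vel : IsElementaryAbelian 2 V
  QV : ∀ x ∈ Q, ∀ v ∈ V, x * v = v * x
  LV : ∀ l ∈ L, ∀ v ∈ V, l * v * l⁻¹ ∈ V
  LQ : ∀ l ∈ L, ∀ x ∈ Q, l * x * l⁻¹ ∈ Q
  AL : A ≤ L
  Ael : IsElementaryAbelian 2 A
  Acard : Nat.card A = m
  off : Nat.card A * Nat.card ↥(V ⊓ centralizer (A : Set G)) ≤ Nat.card V * Nat.card ↥(A ⊓ Q)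
  cA : ∀ a ∈ A, (∀ v ∈ V, a * v = v * a) → a ∈ Q
  comm : ∀ a ∈ A, ∀ v ∈ V, a * v * a⁻¹ * v⁻¹ ∈ Z₁
  Z₁V : Z₁ ≤ V
  ZJV : ZJ ≤ V
  Wel : IsElementaryAbelian 2 W
  WL : ∀ x ∈ L, ∀ w ∈ W, ∀ w' ∈ W, (x * w * x⁻¹) * w' = w' * (x * w * x⁻¹)
  WV : ∀ w ∈ W, ∀ v ∈ V, w * v = v * w
  ZWJ : ZW ≤ ZJ
  WQ : ⁅W, Q⁆ ≤ ZW
  full : ∀ E : Subgroup G, E ≤ Q → IsElementaryAbelian 2 E → Nat.card E = m →
    (∀ e ∈ E, ∀ w ∈ W, e * w = w * e) ∨ (⁅W, E⁆ = ZW ∧
      Nat.card E * Nat.card ↥(W ⊓ centralizer (E : Set G)) ≤ Nat.card W * Nat.card ↥(E ⊓ centralizer (W : Set G)))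

namespace Sit

variable {Q V Z₁ ZJ A L W ZW : Subgroup G} {m : ℕ}

theorem cjWW (h : Sit Q V Z₁ ZJ A L W ZW m) {x y : G} (hx : x ∈ L) (hy : y ∈ L) {w w' : G} (hw : w ∈ cj x W)
    (hw' : w' ∈ cj y W) : w * w' = w' * w := by
  rw [mem_cj] at hw hw'
  have h1 := h.WL (y⁻¹ * x) (mul_mem (inv_mem hy) hx) _ hw _ hw'
  have e1 : y⁻¹ * x * (x⁻¹ * w * x) * (y⁻¹ * x)⁻¹ = y⁻¹ * w * y := by group
  rw [e1] at h1
  calc w * w' = y * (y⁻¹ * w * y * (y⁻¹ * w' * y)) * y⁻¹ := by group
    _ = y * (y⁻¹ * w' * y * (y⁻¹ * w * y)) * y⁻¹ := by rw [h1]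
    _ = w' * w := by group

theorem LV' (h : Sit Q V Z₁ ZJ A L W ZW m) {x : G} (hx : x ∈ L) {v : G} (hv : v ∈ V) : x⁻¹ * v * x ∈ V := by
  have := h.LV x⁻¹ (inv_mem hx) v hv
  rwa [inv_inv] at this

theorem LQ' (h : Sit Q V Z₁ ZJ A L W ZW m) {x : G} (hx : x ∈ L) {v : G} (hv : v ∈ Q) : x⁻¹ * v * x ∈ Q := by
  have := h.LQ x⁻¹ (inv_mem hx) v hv
  rwa [inv_inv] at this

theorem cjWV (h : Sit Q V Z₁ ZJ A L W ZW m) {x : G} (hx : x ∈ L) {w v : G} (hw : w ∈ cj x W) (hv : v ∈ V) :
    w * v = v * w := by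
  rw [mem_cj] at hw
  have h1 := h.WV _ hw _ (h.LV' hx hv)
  calc w * v = x * (x⁻¹ * w * x * (x⁻¹ * v * x)) * x⁻¹ := by group
    _ = x * (x⁻¹ * v * x * (x⁻¹ * w * x)) * x⁻¹ := by rw [h1]
    _ = v * w := by group

theorem cjQ (h : Sit Q V Z₁ ZJ A L W ZW m) [Finite G] {x : G} (hx : x ∈ L) : cj x Q = Q := by
  apply le_antisymm
  · rintro _ ⟨v, hv, rfl⟩
    exact h.LQ x hx v hv
  · intro v hv
    rw [mem_cj]
    exact h.LQ' hx hv

/-- `E = (A ∩ Q) V` has order `m`. -/
theorem E_elem (h : Sit Q V Z₁ ZJ A L W ZW m) : IsElementaryAbelian 2 ((A ⊓ Q) ⊔ V : Subgroup G) :=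
  isElementaryAbelian_sup (isElementaryAbelian_mono h.Ael inf_le_left) h.Vel
    (elem_le_centralizer fun a ha v hv => h.QV a ha.2 v hv)

theorem E_card (h : Sit Q V Z₁ ZJ A L W ZW m) [Finite G] : Nat.card ↥((A ⊓ Q) ⊔ V : Subgroup G) = m := by
  refine le_antisymm (h.max _ h.E_elem) ?_
  have h1 := card_sup_comm fun a (ha : a ∈ A ⊓ Q) v hv => h.QV a ha.2 v hv
  have h2 : (A ⊓ Q) ⊓ V = V ⊓ centralizer (A : Set G) := by
    apply le_antisymm
    · rintro v ⟨⟨hvA, -⟩, hvV⟩
      exact ⟨hvV, mem_centralizer_iff.2 fun a ha => elem_comm h.Ael a ha v hvA⟩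
    · rintro v ⟨hvV, hvc⟩
      exact ⟨⟨mem_of_max h.max h.Ael h.Acard (elem_sq h.Vel v hvV) fun a ha => mem_centralizer_iff.1 hvc a ha,
        h.VQ hvV⟩, hvV⟩
  rw [h2] at h1
  have h3 := h.off
  rw [h.Acard] at h3
  have hp : 0 < Nat.card ↥(V ⊓ centralizer (A : Set G)) := Nat.card_pos
  refine Nat.le_of_mul_le_mul_right ?_ hp
  rw [h1]
  calc m * Nat.card ↥(V ⊓ centralizer (A : Set G)) ≤ Nat.card V * Nat.card ↥(A ⊓ Q) := h3
    _ = _ := mul_comm _ _

/-- The group generated by conjugates of `W` and `V` is elementary abelian. -/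
theorem X_elem (h : Sit Q V Z₁ ZJ A L W ZW m) (s : Set G) (hs : ∀ x ∈ s, x ∈ V ∨ ∃ l ∈ L, x ∈ cj l W) :
    IsElementaryAbelian 2 (closure s) := by
  refine Intrinsic.NZCore.isElementaryAbelian_closure s (fun a ha => ?_) fun a ha b hb => ?_
  · rcases hs a ha with h1 | ⟨l, -, h1⟩
    · rw [← pow_two]; exact elem_sq h.Vel a h1
    · rw [mem_cj] at h1
      have h2 := elem_sq h.Wel _ h1
      have e : a * a = l * ((l⁻¹ * a * l) ^ 2) * l⁻¹ := by rw [pow_two]; group
      rw [e, h2]; group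
  · rcases hs a ha with h1 | ⟨l, hl, h1⟩ <;> rcases hs b hb with h2 | ⟨k, hk, h2⟩
    · exact elem_comm h.Vel a h1 b h2
    · exact (h.cjWV hk h2 h1).symm
    · exact h.cjWV hl h1 h2
    · exact h.cjWW hl hk h1 h2

/-- **TEXT R1 (3)**: `A` centralises `[W, Q]^l`. -/
theorem main (h : Sit Q V Z₁ ZJ A L W ZW m) [Finite G] {l : G} (hl : l ∈ L) (hJ : cj l ZJ ⊓ Z₁ = ⊥) :
    ∀ n ∈ cj l ⁅W, Q⁆, ∀ a ∈ A, a * n * a⁻¹ = n := by
  -- it is enough that `A` normalises some group between `[W, Q]^l` and `Z_J^l`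
  have key : ∀ N : Subgroup G, cj l ⁅W, Q⁆ ≤ N → N ≤ cj l ZJ → (∀ a ∈ A, ∀ n ∈ N, a * n * a⁻¹ ∈ N) →
      ∀ n ∈ cj l ⁅W, Q⁆, ∀ a ∈ A, a * n * a⁻¹ = n := by
    intro N h1 h2 h3 n hn a ha
    have hnN := h1 hn
    have hnV : n ∈ V := by
      have := h2 hnN
      rw [mem_cj] at this
      have h4 := h.LV l hl _ (h.ZJV this)
      have e : l * (l⁻¹ * n * l) * l⁻¹ = n := by group
      rwa [e] at h4
    have h4 : a * n * a⁻¹ * n⁻¹ ∈ cj l ZJ ⊓ Z₁ :=
      ⟨h2 (mul_mem (h3 a ha n hnN) (inv_mem hnN)), h.comm a ha n hnV⟩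
    rw [hJ, mem_bot] at h4
    exact mul_inv_eq_one.1 h4
  set W' : Subgroup G := cj l W with hW'
  have hWQ : cj l ⁅W, Q⁆ = ⁅W', Q⁆ := by
    have h1 : cj l ⁅W, Q⁆ = ⁅cj l W, cj l Q⁆ := Subgroup.map_commutator _ _ _
    rw [h1, h.cjQ hl]
  by_cases hE : ∀ e ∈ A ⊓ Q, ∀ w ∈ W', e * w = w * e
  · -- (a)
    set s : Set G := {x | x ∈ V ∨ ∃ a ∈ A, x ∈ cj (a * l) W} with hs
    have hX := h.X_elem s (by
      rintro x (hx | ⟨a, ha, hx⟩)
      · exact Or.inl hx
      · exact Or.inr ⟨a * l, mul_mem (h.AL ha) hl, hx⟩)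
    have hsV : V ≤ closure s := fun v hv => subset_closure (Or.inl hv)
    have hsW : W' ≤ closure s := fun w hw => subset_closure (Or.inr ⟨1, one_mem _, by rwa [one_mul]⟩)
    have hcomm : ∀ f ∈ A ⊓ Q, ∀ u ∈ closure s, f * u = u * f := by
      intro f hf
      have h1 : closure s ≤ centralizer ({f} : Set G) := by
        rw [closure_le]
        rintro x (hx | ⟨a, ha, hx⟩)
        · exact mem_centralizer_singleton_iff.2 (h.QV f hf.2 x hx).symm
        · rw [SetLike.mem_coe, mem_centralizer_singleton_iff]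
          rw [mem_cj] at hx
          have hx' : a⁻¹ * x * a ∈ W' := by
            rw [hW', mem_cj]
            have e : l⁻¹ * (a⁻¹ * x * a) * l = (a * l)⁻¹ * x * (a * l) := by group
            rwa [e]
          have h2 := hE f hf _ hx'
          have h3 := elem_comm h.Ael a ha f hf.1
          calc x * f = a * (a⁻¹ * x * a) * a⁻¹ * f := by group
            _ = a * (a⁻¹ * x * a) * (a⁻¹ * (f * a) * a⁻¹) := by group
            _ = a * (a⁻¹ * x * a) * (a⁻¹ * (a * f) * a⁻¹) := by rw [h3]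
            _ = a * (a⁻¹ * x * a * f) * a⁻¹ := by group
            _ = a * (f * (a⁻¹ * x * a)) * a⁻¹ := by rw [h2]
            _ = (a * f) * a⁻¹ * x := by group
            _ = (f * a) * a⁻¹ * x := by rw [h3]
            _ = f * x := by group
      intro u hu
      exact (mem_centralizer_singleton_iff.1 (h1 hu)).symm
    have hsp := split h.max h.Ael h.Acard hX (F := A ⊓ Q) (W := V) inf_le_left hcomm
      (fun u hu huA => ⟨huA, h.cA u huA fun v hv => elem_comm hX u hu v (hsV hv)⟩) hsV h.off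
    -- `A` normalises `W' Z₁` modulo ... : `[w, a] ∈ Z₁`
    have hwa : ∀ w ∈ W', ∀ a ∈ A, a * w * a⁻¹ * w⁻¹ ∈ Z₁ := by
      intro w hw a ha
      obtain ⟨v, hv, c, -, hc, rfl⟩ := hsp w (hsW hw)
      have hac : a * c * a⁻¹ = c := by rw [hc a ha]; group
      have e : a * (v * c) * a⁻¹ * (v * c)⁻¹ = (a * v * a⁻¹) * (a * c * a⁻¹) * c⁻¹ * v⁻¹ := by group
      have e3 : (a * v * a⁻¹) * c * c⁻¹ * v⁻¹ = a * v * a⁻¹ * v⁻¹ := by group
      rw [e, hac, e3]
      exact h.comm a ha v hv
    refine key (cj l ⁅W, Q⁆) le_rfl (cj_mono l (h.WQ.trans h.ZWJ)) ?_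
    rw [hWQ]
    intro a ha
    have h1 : ⁅W', Q⁆ ≤ (⁅W', Q⁆).comap (MulAut.conj a).toMonoidHom := by
      rw [Subgroup.commutator_le]
      intro w hw x hx
      show a * ⁅w, x⁆ * a⁻¹ ∈ ⁅W', Q⁆
      have hx' : a * x * a⁻¹ ∈ Q := h.LQ a (h.AL ha) x hx
      have hz := hwa w hw a ha
      set z := a * w * a⁻¹ * w⁻¹ with hz'
      have hzx : z * (a * x * a⁻¹) = (a * x * a⁻¹) * z := (h.QV _ hx' z (h.Z₁V hz)).symm
      have hzw : z * w = w * z := (h.cjWV hl hw (h.Z₁V hz)).symm
      have e : a * ⁅w, x⁆ * a⁻¹ = ⁅w, a * x * a⁻¹⁆ := by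
        have e1 : a * w * a⁻¹ = z * w := by rw [hz']; group
        have e2 : a * ⁅w, x⁆ * a⁻¹ = (a * w * a⁻¹) * (a * x * a⁻¹) * (a * w * a⁻¹)⁻¹ * (a * x * a⁻¹)⁻¹ := by
          rw [commutatorElement_def]; group
        rw [e2, e1, hzw, commutatorElement_def]
        calc w * z * (a * x * a⁻¹) * (w * z)⁻¹ * (a * x * a⁻¹)⁻¹
            = w * (z * (a * x * a⁻¹)) * z⁻¹ * w⁻¹ * (a * x * a⁻¹)⁻¹ := by group
          _ = w * ((a * x * a⁻¹) * z) * z⁻¹ * w⁻¹ * (a * x * a⁻¹)⁻¹ := by rw [hzx]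
          _ = _ := by group
      rw [e]
      exact commutator_mem_commutator hw hx'
    intro n hn
    exact h1 hn
  · -- (b)
    push Not at hE
    obtain ⟨e₀, he₀, w₀, hw₀, hne⟩ := hE
    set E : Subgroup G := (A ⊓ Q) ⊔ V with hEdef
    have hEQ : E ≤ Q := sup_le inf_le_right h.VQ
    have hEel := h.E_elem
    have hEc := h.E_card
    -- fullness for `E^(l⁻¹)`, conjugated by `l`
    have hfull : ⁅W', E⁆ = cj l ZW ∧
        Nat.card E * Nat.card ↥(W' ⊓ centralizer (E : Set G)) ≤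
          Nat.card W' * Nat.card ↥(E ⊓ centralizer (W' : Set G)) := by
      have hE'Q : cj l⁻¹ E ≤ Q := by
        rw [← h.cjQ (inv_mem hl)]
        exact cj_mono _ hEQ
      rcases h.full (cj l⁻¹ E) hE'Q (isElementaryAbelian_cj _ hEel) (by rw [card_cj, hEc]) with h1 | ⟨h1, h2⟩
      · exfalso
        apply hne
        have h3 := h1 (l⁻¹ * e₀ * l) (by
          rw [mem_cj]
          have e : l⁻¹⁻¹ * (l⁻¹ * e₀ * l) * l⁻¹ = e₀ := by group
          rw [e]
          exact mem_sup_left he₀) (l⁻¹ * w₀ * l) (by rwa [hW', mem_cj] at hw₀)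
        calc e₀ * w₀ = l * (l⁻¹ * e₀ * l * (l⁻¹ * w₀ * l)) * l⁻¹ := by group
          _ = l * (l⁻¹ * w₀ * l * (l⁻¹ * e₀ * l)) * l⁻¹ := by rw [h3]
          _ = w₀ * e₀ := by group
      · constructor
        · have h3 := congrArg (cj l) h1
          have h4 : cj l ⁅W, cj l⁻¹ E⁆ = ⁅cj l W, cj l (cj l⁻¹ E)⁆ := Subgroup.map_commutator _ _ _
          rw [h4, cj_cj_inv] at h3
          exact h3
        · have e1 : cj l (cj l⁻¹ E) = E := cj_cj_inv _ _
          have h3 : Nat.card ↥(W' ⊓ centralizer (E : Set G)) = Nat.card ↥(W ⊓ centralizer ((cj l⁻¹ E : Subgroup G) : Set G)) := by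
            have h5 : W' ⊓ centralizer (E : Set G) = cj l (W ⊓ centralizer ((cj l⁻¹ E : Subgroup G) : Set G)) := by
              rw [cj_inf, cj_centralizer, e1]
            rw [h5, card_cj]
          have h4 : Nat.card ↥(E ⊓ centralizer (W' : Set G)) = Nat.card ↥(cj l⁻¹ E ⊓ centralizer (W : Set G)) := by
            have h5 : E ⊓ centralizer (W' : Set G) = cj l (cj l⁻¹ E ⊓ centralizer (W : Set G)) := by
              rw [cj_inf, cj_centralizer, e1]
            rw [h5, card_cj]
          rw [h3, h4, hW', card_cj]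
          rwa [card_cj] at h2
    refine key (cj l ZW) (cj_mono l h.WQ) (cj_mono l h.ZWJ) ?_
    intro a ha
    rw [← hfull.1]
    -- `U = W' W'^a V`
    set s : Set G := {x | x ∈ V ∨ x ∈ W' ∨ x ∈ cj a W'} with hs
    have hX := h.X_elem s (by
      rintro x (hx | hx | hx)
      · exact Or.inl hx
      · exact Or.inr ⟨l, hl, hx⟩
      · refine Or.inr ⟨a * l, mul_mem (h.AL ha) hl, ?_⟩
        rwa [hW', cj_cj] at hx)
    have hsV : V ≤ closure s := fun v hv => subset_closure (Or.inl hv)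
    have hsW : W' ≤ closure s := fun w hw => subset_closure (Or.inr (Or.inl hw))
    have hsWa : cj a W' ≤ closure s := fun w hw => subset_closure (Or.inr (Or.inr hw))
    have hEV : ∀ e ∈ E, ∀ v ∈ V, e * v = v * e := fun e he v hv => h.QV e (hEQ he) v hv
    have hF : ∀ f ∈ E ⊓ centralizer (W' : Set G), ∀ u ∈ closure s, f * u = u * f := by
      intro f hf
      have hfW : ∀ w ∈ W', f * w = w * f := fun w hw => (mem_centralizer_iff.1 hf.2 w hw).symm
      have h1 : closure s ≤ centralizer ({f} : Set G) := by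
        rw [closure_le]
        rintro x (hx | hx | hx)
        · exact mem_centralizer_singleton_iff.2 (hEV f hf.1 x hx).symm
        · exact mem_centralizer_singleton_iff.2 (hfW x hx).symm
        · rw [SetLike.mem_coe, mem_centralizer_singleton_iff]
          obtain ⟨e, he, v, hv, hfe⟩ := mem_sup_comm (fun b (hb : b ∈ A ⊓ Q) v hv => h.QV b hb.2 v hv) hf.1
          have hxW : a⁻¹ * x * a ∈ W' := by rwa [mem_cj] at hx
          have hvW : ∀ w ∈ W', v * w = w * v := fun w hw => (h.cjWV hl hw hv).symm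
          have heW : ∀ w ∈ W', e * w = w * e := by
            intro w hw
            have h2 := hfW w hw
            rw [hfe] at h2
            have h3 := hvW w hw
            calc e * w = e * v * w * v⁻¹ * (v * w⁻¹ * v⁻¹ * w) := by
                  have : v * w⁻¹ * v⁻¹ * w = 1 := by
                    have h4 : v * w⁻¹ = w⁻¹ * v := by
                      calc v * w⁻¹ = w⁻¹ * (w * v) * w⁻¹ := by group
                        _ = w⁻¹ * (v * w) * w⁻¹ := by rw [h3]
                        _ = w⁻¹ * v := by group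
                    rw [h4]; group
                  rw [this, mul_one]
                  calc e * w = e * (v * (v⁻¹ * w * v)) * v⁻¹ := by group
                    _ = e * (v * (v⁻¹ * (v * w))) * v⁻¹ := by rw [h3]; group
                    _ = e * v * w * v⁻¹ := by group
              _ = e * v * w * v⁻¹ := by
                  have : v * w⁻¹ * v⁻¹ * w = 1 := by
                    have h4 : v * w⁻¹ = w⁻¹ * v := by
                      calc v * w⁻¹ = w⁻¹ * (w * v) * w⁻¹ := by group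
                        _ = w⁻¹ * (v * w) * w⁻¹ := by rw [h3]
                        _ = w⁻¹ * v := by group
                    rw [h4]; group
                  rw [this, mul_one]
              _ = w * (e * v) * v⁻¹ := by rw [h2]
              _ = w * e := by group
          have hxa : x * e = e * x := by
            have h2 := heW _ hxW
            have h3 := elem_comm h.Ael a ha e he.1
            calc x * e = a * (a⁻¹ * x * a) * (a⁻¹ * (e * a) * a⁻¹) := by group
              _ = a * (a⁻¹ * x * a) * (a⁻¹ * (a * e) * a⁻¹) := by rw [h3]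
              _ = a * (a⁻¹ * x * a * e) * a⁻¹ := by group
              _ = a * (e * (a⁻¹ * x * a)) * a⁻¹ := by rw [h2]
              _ = (a * e) * a⁻¹ * x := by group
              _ = (e * a) * a⁻¹ * x := by rw [h3]
              _ = e * x := by group
          have hxv : x * v = v * x := by
            have hx2 : x ∈ cj (a * l) W := by rwa [hW', cj_cj] at hx
            exact h.cjWV (mul_mem (h.AL ha) hl) hx2 hv
          rw [hfe, ← mul_assoc, hxa, mul_assoc, hxv, mul_assoc]
      intro u hu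
      exact (mem_centralizer_singleton_iff.1 (h1 hu)).symm
    have hsp := split h.max hEel hEc hX (F := E ⊓ centralizer (W' : Set G)) (W := W') inf_le_left hF
      (fun u hu huE => ⟨huE, mem_centralizer_iff.2 fun w hw => elem_comm hX w (hsW hw) u hu⟩) hsW hfull.2
    -- `E` is normalised by `a`
    have hEa : ∀ e ∈ E, a * e * a⁻¹ ∈ E := by
      intro e he
      obtain ⟨b, hb, v, hv, rfl⟩ := mem_sup_comm (fun b (hb : b ∈ A ⊓ Q) v hv => h.QV b hb.2 v hv) he
      have h3 := elem_comm h.Ael a ha b hb.1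
      have e1 : a * (b * v) * a⁻¹ = (a * b) * a⁻¹ * (a * v * a⁻¹) := by group
      rw [e1, h3]
      refine mul_mem ?_ (mem_sup_right (h.LV a (h.AL ha) v hv))
      have e2 : b * a * a⁻¹ = b := by group
      rw [e2]
      exact mem_sup_left hb
    have h1 : ⁅W', E⁆ ≤ (⁅W', E⁆).comap (MulAut.conj a).toMonoidHom := by
      rw [Subgroup.commutator_le]
      intro w hw e he
      show a * ⁅w, e⁆ * a⁻¹ ∈ ⁅W', E⁆
      have he' := hEa e he
      have hw' : a * w * a⁻¹ ∈ cj a W' := ⟨w, hw, rfl⟩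
      obtain ⟨w₁, hw₁, c, -, hc, e1⟩ := hsp _ (hsWa hw')
      have e2 : a * ⁅w, e⁆ * a⁻¹ = (a * w * a⁻¹) * (a * e * a⁻¹) * (a * w * a⁻¹)⁻¹ * (a * e * a⁻¹)⁻¹ := by
        rw [commutatorElement_def]; group
      have hc' := hc _ he'
      have e3 : a * ⁅w, e⁆ * a⁻¹ = ⁅w₁, a * e * a⁻¹⁆ := by
        rw [e2, e1, commutatorElement_def]
        calc w₁ * c * (a * e * a⁻¹) * (w₁ * c)⁻¹ * (a * e * a⁻¹)⁻¹
            = w₁ * (c * (a * e * a⁻¹)) * c⁻¹ * w₁⁻¹ * (a * e * a⁻¹)⁻¹ := by group
          _ = w₁ * ((a * e * a⁻¹) * c) * c⁻¹ * w₁⁻¹ * (a * e * a⁻¹)⁻¹ := by rw [hc']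
          _ = _ := by group
      rw [e3]
      exact commutator_mem_commutator hw₁ he'
    intro n hn
    exact h1 hn

end Sit

end Cfsg.Agent.Omega.OM.BlockUniq

end
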